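import Cfsg.Agent.Lib.SteinbergValues.Mobius
import Cfsg.Agent.Lib.GLFlags.Unipotent
import Mathlib.LinearAlgebra.Charpoly.ToMatrix

/-! Values of the Steinberg character at semisimple elements. -/

set_option autoImplicit false

namespace CfsgLib.SteinbergValues

open Module Finset Polynomial UniqueFactorizationMonoid CfsgLib.GLFlags

variable {F : Type*} [Field F] [Fintype F] [DecidableEq F] {n : ℕ}

theorem steinberg_eq_altTop (x : GL (Fin n) F) :
    Cfsg.unipotentCharacterGL n F (fun _ => 1) x =
      ((altTop (Matrix.toLin' (x : Matrix (Fin n) (Fin n) F)) ⊥ : ℤ) : ℂ) := by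
  classical
  set g := Matrix.toLin' (x : Matrix (Fin n) (Fin n) F)
  rw [altTop, finrank_bot, finrank_fin_fun, Nat.sub_zero, Cfsg.unipotentCharacterGL, alt, Int.cast_sum]
  refine Finset.sum_congr rfl fun κ _ => ?_
  by_cases hκ : ∀ i : Fin n, (κ i).val ≤ 1 + i.val
  · rw [if_pos hκ, if_pos hκ, fixedPointCharacter_eq _ (sum_shift (fun _ => 1) (by simp) κ hκ), Int.cast_mul,
      Int.cast_natCast]
    congr 3
    have hsteps : stepsOf 0 κ = fun i : Fin n => 1 + i.val - (κ i).val := by
      funext i; simp [stepsOf]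
    rw [hsteps]
    congr 1
    ext C
    constructor
    · rintro ⟨hmono, hdim, hinv⟩
      refine ⟨Submodule.finrank_eq_zero.1 ?_, hmono, fun a => ?_, hinv⟩
      · rw [hdim 0]; simp [partialSum]
      · rw [hdim a]; simp
    · rintro ⟨-, hmono, hdim, hinv⟩
      exact ⟨hmono, fun a => by rw [hdim a]; simp, hinv⟩
  · rw [if_neg hκ, if_neg hκ, Int.cast_zero]

theorem steinberg_value (p : ℕ) [Fact p.Prime] [CharP F p] (x : GL (Fin n) F) (hx : (orderOf x).Coprime p) :
    Cfsg.unipotentCharacterGL n F (fun _ => 1) x =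
      ∏ f ∈ (normalizedFactors (x : Matrix (Fin n) (Fin n) F).charpoly).toFinset,
        (-1 : ℂ) ^ ((f.natDegree - 1) * (normalizedFactors (x : Matrix (Fin n) (Fin n) F).charpoly).count f) *
          (Fintype.card F : ℂ) ^ (f.natDegree * (normalizedFactors (x : Matrix (Fin n) (Fin n) F).charpoly).count f *
            ((normalizedFactors (x : Matrix (Fin n) (Fin n) F).charpoly).count f - 1) / 2) := by
  classical
  set g := Matrix.toLin' (x : Matrix (Fin n) (Fin n) F) with hgdef
  have hk : ((orderOf x : ℕ) : F) ≠ 0 := by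
    rw [ne_eq, CharP.cast_eq_zero_iff F p]
    intro h
    exact (Fact.out : p.Prime).ne_one (Nat.dvd_one.1 (hx ▸ Nat.dvd_gcd h dvd_rfl))
  have hg : g ^ orderOf x = 1 := by
    show (Matrix.toLinAlgEquiv' (x : Matrix (Fin n) (Fin n) F)) ^ orderOf x = 1
    rw [← map_pow, ← Units.val_pow_eq_pow_val, pow_orderOf_eq_one, Units.val_one, map_one]
  have hμ := mu_bot hk n g (mu g) (finrank_fin_fun F) hg (isMu_mu g)
  rw [mu, finrank_bot, finrank_fin_fun, Nat.sub_zero, Matrix.charpoly_toLin'] at hμ
  set c := (x : Matrix (Fin n) (Fin n) F).charpoly with hcdef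
  have hc0 : c ≠ 0 := (Matrix.charpoly_monic _).ne_zero
  have hprod : (normalizedFactors c).prod = c :=
    Polynomial.eq_of_monic_of_associated
      (by
        rw [← Multiset.map_id' (normalizedFactors c)]
        refine monic_multiset_prod_of_monic _ _ fun f hf => ?_
        rw [← normalize_normalized_factor f hf]
        exact Polynomial.monic_normalize (prime_of_normalized_factor f hf).ne_zero)
      (Matrix.charpoly_monic _) (prod_normalizedFactors hc0)
  have hdeg : ∑ f ∈ (normalizedFactors c).toFinset, (normalizedFactors c).count f * f.natDegree = n := by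
    have h := congrArg Polynomial.natDegree hprod
    rw [natDegree_multiset_prod _ (fun h0 => (prime_of_normalized_factor _ h0).ne_zero rfl),
      Finset.sum_multiset_map_count, hcdef, Matrix.charpoly_natDegree_eq_dim, Fintype.card_fin] at h
    simpa [hcdef] using h
  have halt : altTop g ⊥ = (-1) ^ n * muValue (Fintype.card F) (normalizedFactors c) := by
    rw [← Nat.card_eq_fintype_card, ← hμ, ← mul_assoc, ← mul_pow]
    simp
  rw [steinberg_eq_altTop, halt, muValue, ← hdeg, ← Finset.prod_pow_eq_pow_sum, ← Finset.prod_mul_distrib,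
    Int.cast_prod]
  refine Finset.prod_congr rfl fun f hf => ?_
  have hd := (prime_of_normalized_factor f (Multiset.mem_toFinset.1 hf)).irreducible.natDegree_pos
  push_cast
  rw [← mul_assoc]
  congr 1
  · obtain ⟨d, hd'⟩ : ∃ d, f.natDegree = d + 1 := ⟨f.natDegree - 1, by omega⟩
    rw [← pow_add, hd', Nat.add_sub_cancel, show
      (normalizedFactors c).count f * (d + 1) + (normalizedFactors c).count f =
        d * (normalizedFactors c).count f + 2 * (normalizedFactors c).count f by ring, pow_add, pow_mul (-1 : ℂ) 2]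
    simp
  · rw [Nat.choose_two_right, mul_assoc,
      Nat.mul_div_assoc _ (Nat.two_dvd_mul_sub_one ..)]

end CfsgLib.SteinbergValues
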