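import Cfsg.Agent.Lib.GLFlags.Label
import Mathlib.LinearAlgebra.Matrix.ToLin
import Mathlib.LinearAlgebra.FiniteDimensional.Lemmas
import Mathlib.LinearAlgebra.Basis.Prod
import Mathlib.GroupTheory.GroupAction.Quotient

/-! Fixed points on partial flag spaces are invariant chains of subspaces. -/

set_option autoImplicit false

namespace CfsgLib.SteinbergValues

open Module Finset CfsgLib.GLFlags

variable {F : Type*} [Field F]

/-- Invariant chains with prescribed dimensions. -/
def Chain {V : Type*} [AddCommGroup V] [Module F V] (g : End F V) (k : ℕ) (D : ℕ → ℕ) :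
    Set (Fin (k + 1) → Submodule F V) :=
  {C | Monotone C ∧ (∀ a, finrank F (C a) = D a) ∧ ∀ a, ∀ v ∈ C a, g v ∈ C a}

variable {n : ℕ}

/-- The standard subspaces. -/
noncomputable def stdSub (F : Type*) [Field F] (n a : ℕ) : Submodule F (Fin n → F) :=
  Submodule.span F (Pi.basisFun F (Fin n) '' {i | (i : ℕ) < a})

theorem mem_stdSub {a : ℕ} {v : Fin n → F} : v ∈ stdSub F n a ↔ ∀ i : Fin n, a ≤ i → v i = 0 := by
  rw [stdSub, Basis.mem_span_image]
  constructor
  · intro h i hi
    by_contra hne
    have := h (a := i) (by simpa [Finsupp.mem_support_iff, Pi.basisFun_repr] using hne)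
    simp at this
    omega
  · intro h i hi
    simp only [Finset.mem_coe, Finsupp.mem_support_iff, Pi.basisFun_repr, ne_eq] at hi
    show (i : ℕ) < a
    by_contra hle
    exact hi (h i (not_lt.1 hle))

theorem finrank_span_image_lt {V : Type*} [AddCommGroup V] [Module F V] {d : ℕ} (b : Basis (Fin d) F V)
    {a : ℕ} (ha : a ≤ d) : finrank F (Submodule.span F (b '' {i | (i : ℕ) < a})) = a := by
  have h : b '' {i | (i : ℕ) < a} = Set.range (fun i : Fin a => b (Fin.castLE ha i)) := by
    ext v
    constructor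
    · rintro ⟨i, hi, rfl⟩; exact ⟨⟨i, hi⟩, rfl⟩
    · rintro ⟨i, rfl⟩; exact ⟨Fin.castLE ha i, i.2, rfl⟩
  rw [h]
  exact (finrank_span_eq_card (b.linearIndependent.comp _ (Fin.castLE_injective ha))).trans (Fintype.card_fin a)

theorem finrank_stdSub {a : ℕ} (ha : a ≤ n) : finrank F (stdSub F n a) = a :=
  finrank_span_image_lt _ ha

theorem stdSub_mono {a b : ℕ} (h : a ≤ b) : stdSub F n a ≤ stdSub F n b := fun _ hv =>
  mem_stdSub.2 fun i hi => mem_stdSub.1 hv i (h.trans hi)

/-- A basis adapted to a chain. -/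
theorem exists_adapted {V : Type*} [AddCommGroup V] [Module F V] [FiniteDimensional F V] :
    ∀ (k : ℕ) (C : Fin k → Submodule F V), Monotone C →
      ∃ b : Basis (Fin (finrank F V)) F V, ∀ a, C a = Submodule.span F (b '' {i | (i : ℕ) < finrank F (C a)}) := by
  intro k
  induction k generalizing V with
  | zero => exact fun C _ => ⟨finBasis F V, fun a => a.elim0⟩
  | succ k ih =>
    intro C hC
    set W := C (Fin.last k)
    have hle : ∀ a, C a ≤ W := fun a => hC (Fin.le_last a)
    obtain ⟨bW, hbW⟩ := ih (V := W) (fun a => (C a.castSucc).comap W.subtype) fun a a' h =>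
      Submodule.comap_mono (hC (Fin.castSucc_le_castSucc_iff.2 h))
    obtain ⟨W', hW'⟩ := W.exists_isCompl
    have hd : finrank F W + finrank F W' = finrank F V := Submodule.finrank_add_eq_of_isCompl hW'
    let b : Basis (Fin (finrank F V)) F V :=
      ((bW.prod (finBasis F W')).map (Submodule.prodEquivOfIsCompl W W' hW')).reindex
        (finSumFinEquiv.trans (finCongr hd))
    have hb : ∀ (i : Fin (finrank F V)) (h : (i : ℕ) < finrank F W), b i = (bW ⟨i, h⟩ : V) := by
      intro i h
      have h2 : finSumFinEquiv.symm (Fin.cast hd.symm i) = Sum.inl ⟨i, h⟩ := by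
        rw [Equiv.symm_apply_eq]
        exact Fin.ext (by simp)
      simp [b, Basis.reindex_apply, h2]
    refine ⟨b, fun a => ?_⟩
    have hspan : ∀ m, m ≤ finrank F W →
        Submodule.span F (b '' {i | (i : ℕ) < m}) = (Submodule.span F (bW '' {i | (i : ℕ) < m})).map W.subtype := by
      intro m hm
      rw [Submodule.map_span, ← Set.image_comp]
      congr 1
      ext v
      constructor
      · rintro ⟨i, hi, rfl⟩
        have hi' : (i : ℕ) < m := hi
        exact ⟨⟨i, lt_of_lt_of_le hi' hm⟩, hi', (hb i _).symm⟩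
      · rintro ⟨i, hi, rfl⟩
        have hi' : (i : ℕ) < m := hi
        exact ⟨⟨i, lt_of_lt_of_le i.2 (hd ▸ Nat.le_add_right _ _)⟩, hi', hb _ i.2⟩
    rw [hspan _ (Submodule.finrank_mono (hle a))]
    induction a using Fin.lastCases with
    | last =>
      rw [show {i : Fin (finrank F W) | (i : ℕ) < finrank F (C (Fin.last k))} = Set.univ from
        Set.eq_univ_of_forall fun i => i.2, Set.image_univ, bW.span_eq, Submodule.map_top, Submodule.range_subtype]
    | cast a =>
      rw [← (Submodule.comapSubtypeEquivOfLe (hle a.castSucc)).finrank_eq, ← hbW a,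
        Submodule.map_comap_subtype, inf_eq_right.2 (hle _)]

/-- The partial sums of a composition. -/
abbrev dims {n : ℕ} (μ : Fin n → ℕ) : ℕ → ℕ := partialSum μ

theorem mem_parabolic_iff_stdSub (μ : Fin n → ℕ) (hμ : ∑ i, μ i = n) (p : GL (Fin n) F) :
    p ∈ Cfsg.parabolicGL n F μ ↔
      ∀ a : Fin (n + 1), ∀ v ∈ stdSub F n (dims μ a), Matrix.toLin' (p : Matrix (Fin n) (Fin n) F) v ∈ stdSub F n (dims μ a) := by
  constructor
  · intro hp a v hv
    rw [mem_stdSub] at hv ⊢
    intro i hi
    rw [Matrix.toLin'_apply, Matrix.mulVec, dotProduct]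
    refine Finset.sum_eq_zero fun j _ => ?_
    rcases lt_or_ge (j : ℕ) (dims μ a) with h | h
    · have h1 := (compLabel_lt_iff μ j (Nat.lt_succ_iff.1 a.2)).2 h
      have h2 : ¬ Cfsg.compLabel μ i < a := fun h' =>
        absurd ((compLabel_lt_iff μ i (Nat.lt_succ_iff.1 a.2)).1 h') (not_lt.2 hi)
      rw [hp (show Cfsg.compLabel μ j < Cfsg.compLabel μ i by omega), zero_mul]
    · rw [hv j h, mul_zero]
  · intro h i j hij
    have hlab : ∀ i, Cfsg.compLabel μ i < n := fun i => (lab μ hμ i).2
    have := hlab i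
    set a : Fin (n + 1) := ⟨Cfsg.compLabel μ j + 1, by omega⟩
    have hj : (j : ℕ) < dims μ a := (compLabel_lt_iff μ j (show Cfsg.compLabel μ j + 1 ≤ n by omega)).1 (Nat.lt_succ_self _)
    have hi : dims μ a ≤ i := not_lt.1 fun h' => absurd
      ((compLabel_lt_iff μ i (show Cfsg.compLabel μ j + 1 ≤ n by omega)).2 h') (by omega)
    have hmem : Pi.single j (1 : F) ∈ stdSub F n (dims μ a) :=
      mem_stdSub.2 fun k hk => Pi.single_eq_of_ne (fun e => by subst e; omega) _
    have := mem_stdSub.1 (h a _ hmem) i hi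
    simpa [Matrix.toLin'_apply] using this

/-- The chain attached to an invertible matrix. -/
noncomputable def chainOf (μ : Fin n → ℕ) (h : GL (Fin n) F) : Fin (n + 1) → Submodule F (Fin n → F) :=
  fun a => (stdSub F n (dims μ a)).map (Matrix.toLin' (h : Matrix (Fin n) (Fin n) F))

theorem toLin'_mul_GL (g h : GL (Fin n) F) :
    Matrix.toLin' ((g * h : GL (Fin n) F) : Matrix (Fin n) (Fin n) F) =
      (Matrix.toLin' (g : Matrix (Fin n) (Fin n) F)).comp (Matrix.toLin' (h : Matrix (Fin n) (Fin n) F)) := by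
  rw [Units.val_mul, Matrix.toLin'_mul]

theorem injective_toLin'_GL (g : GL (Fin n) F) :
    Function.Injective (Matrix.toLin' (g : Matrix (Fin n) (Fin n) F)) := by
  intro u v h
  have := congrArg (Matrix.toLin' ((g⁻¹ : GL (Fin n) F) : Matrix (Fin n) (Fin n) F)) h
  simpa [Matrix.toLin'_apply, Matrix.mulVec_mulVec] using this

theorem map_eq_of_le {g : GL (Fin n) F} {U : Submodule F (Fin n → F)}
    (h : ∀ v ∈ U, Matrix.toLin' (g : Matrix (Fin n) (Fin n) F) v ∈ U) :
    U.map (Matrix.toLin' (g : Matrix (Fin n) (Fin n) F)) = U := by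
  refine Submodule.eq_of_le_of_finrank_le (by rintro _ ⟨v, hv, rfl⟩; exact h v hv) ?_
  rw [← (Submodule.equivMapOfInjective _ (injective_toLin'_GL g) U).finrank_eq]

theorem chainOf_eq_iff (μ : Fin n → ℕ) (hμ : ∑ i, μ i = n) (g h : GL (Fin n) F) :
    chainOf μ g = chainOf μ h ↔ g⁻¹ * h ∈ Cfsg.parabolicGL n F μ := by
  rw [mem_parabolic_iff_stdSub μ hμ]
  constructor
  · intro e a v hv
    have h1 : Matrix.toLin' (h : Matrix (Fin n) (Fin n) F) v ∈ chainOf μ g a := by
      rw [e]; exact Submodule.mem_map_of_mem hv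
    obtain ⟨w, hw, hwv⟩ := h1
    rw [toLin'_mul_GL, LinearMap.comp_apply, ← hwv, ← LinearMap.comp_apply, ← toLin'_mul_GL, inv_mul_cancel]
    simpa using hw
  · intro e
    funext a
    show _ = (stdSub F n (dims μ a)).map _
    conv_rhs => rw [show h = g * (g⁻¹ * h) from (mul_inv_cancel_left g h).symm, toLin'_mul_GL,
      Submodule.map_comp, map_eq_of_le (e a)]
    rfl

theorem fixedPointCharacter_eq [Fintype F] (μ : Fin n → ℕ) (hμ : ∑ i, μ i = n) (x : GL (Fin n) F) :
    Cfsg.fixedPointCharacter (Cfsg.parabolicGL n F μ) x =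
      (Nat.card (Chain (Matrix.toLin' (x : Matrix (Fin n) (Fin n) F)) n (dims μ)) : ℂ) := by
  rw [Cfsg.fixedPointCharacter]
  congr 1
  let Φ : GL (Fin n) F ⧸ Cfsg.parabolicGL n F μ → Fin (n + 1) → Submodule F (Fin n → F) :=
    Quotient.lift (chainOf μ) fun g h hgh => (chainOf_eq_iff μ hμ g h).2 (QuotientGroup.leftRel_apply.1 hgh)
  have hΦ : ∀ h : GL (Fin n) F, Φ (QuotientGroup.mk h) = chainOf μ h := fun h => rfl
  have hinj : Function.Injective Φ := by
    intro u v
    induction u using QuotientGroup.induction_on with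
    | H g =>
      induction v using QuotientGroup.induction_on with
      | H h => exact fun e => QuotientGroup.eq.2 ((chainOf_eq_iff μ hμ g h).1 e)
  have hps : ∀ a, partialSum μ a ≤ n := fun a => by
    have := partialSum_mono μ (show a ≤ max a n by omega)
    rw [partialSum_top μ (show n ≤ max a n by omega), hμ] at this
    exact this
  rw [← Nat.card_image_of_injective hinj]
  congr 1
  congr 1
  ext C
  constructor
  · rintro ⟨u, hu, rfl⟩
    induction u using QuotientGroup.induction_on with
    | H h =>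
      rw [hΦ]
      refine ⟨fun a b hab => Submodule.map_mono (stdSub_mono (partialSum_mono μ hab)), fun a => ?_,
        fun a v hv => ?_⟩
      · rw [chainOf, ← (Submodule.equivMapOfInjective _ (injective_toLin'_GL h) _).finrank_eq, finrank_stdSub (hps _)]
      · have h1 : chainOf μ (x * h) = chainOf μ h := by
          have h2 := congrArg Φ (MulAction.mem_fixedBy.1 hu)
          rwa [MulAction.Quotient.smul_mk, smul_eq_mul, hΦ, hΦ] at h2
        rw [← h1]
        show _ ∈ Submodule.map _ _
        rw [toLin'_mul_GL, Submodule.map_comp]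
        exact Submodule.mem_map_of_mem hv
  · rintro ⟨hmono, hdim, hinv⟩
    obtain ⟨b, hb⟩ := exists_adapted (n + 1) C hmono
    let e : (Fin n → F) ≃ₗ[F] (Fin n → F) := (Pi.basisFun F (Fin n)).equiv b (finCongr (finrank_fin_fun F).symm)
    have heb : ∀ i, e (Pi.basisFun F (Fin n) i) = b (finCongr (finrank_fin_fun F).symm i) := fun i =>
      Basis.equiv_apply _ _ _ _
    have heb' : ∀ i, e (Pi.basisFun F (Fin n) (finCongr (finrank_fin_fun F) i)) = b i := fun i => by
      rw [heb]; rfl
    have hu : IsUnit (LinearMap.toMatrix' (e : (Fin n → F) →ₗ[F] (Fin n → F))) := by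
      rw [Matrix.isUnit_iff_isUnit_det, LinearMap.det_toMatrix']
      exact e.isUnit_det'
    refine ⟨QuotientGroup.mk hu.unit, ?_, ?_⟩
    · rw [MulAction.mem_fixedBy, MulAction.Quotient.smul_mk, smul_eq_mul]
      apply hinj
      rw [hΦ, hΦ]
      funext a
      have hC : chainOf μ hu.unit a = C a := by
        show (Submodule.span F _).map _ = _
        rw [IsUnit.unit_spec, Matrix.toLin'_toMatrix', Submodule.map_span, ← Set.image_comp, hb a, hdim a]
        congr 1
        ext v
        constructor
        · rintro ⟨i, hi, rfl⟩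
          exact ⟨finCongr (finrank_fin_fun F).symm i, hi, (heb i).symm⟩
        · rintro ⟨i, hi, rfl⟩
          exact ⟨finCongr (finrank_fin_fun F) i, hi, heb' i⟩
      show _ = chainOf μ hu.unit a
      rw [hC]
      show (stdSub F n (dims μ a)).map _ = C a
      rw [toLin'_mul_GL, Submodule.map_comp, show (stdSub F n (dims μ a)).map _ = C a from hC]
      exact map_eq_of_le (hinv a)
    · rw [hΦ]
      funext a
      show (Submodule.span F _).map _ = _
      rw [IsUnit.unit_spec, Matrix.toLin'_toMatrix', Submodule.map_span, ← Set.image_comp, hb a, hdim a]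
      congr 1
      ext v
      constructor
      · rintro ⟨i, hi, rfl⟩
        exact ⟨finCongr (finrank_fin_fun F).symm i, hi, (heb i).symm⟩
      · rintro ⟨i, hi, rfl⟩
        exact ⟨finCongr (finrank_fin_fun F) i, hi, heb' i⟩

end CfsgLib.SteinbergValues
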