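import Cfsg.Agent.Lib.SteinbergValues.Flags
import Mathlib.GroupTheory.Perm.Fin
import Mathlib.Algebra.BigOperators.Fin
import Mathlib.Algebra.Module.Submodule.Lattice

/-! The alternating sum of invariant chains is the Möbius function of the lattice of invariant subspaces. -/

set_option autoImplicit false

namespace CfsgLib.SteinbergValues

open Module Finset CfsgLib.GLFlags

variable {F : Type*} [Field F] {V : Type*} [AddCommGroup V] [Module F V]

/-- Invariant subspaces as a finset. -/
noncomputable def invs [Finite V] (g : End F V) : Finset (Submodule F V) :=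
  haveI := Finite.of_injective (fun U : Submodule F V => (U : Set V)) SetLike.coe_injective
  (Set.toFinite {U : Submodule F V | ∀ v ∈ U, g v ∈ U}).toFinset

theorem mem_invs [Finite V] {g : End F V} {U : Submodule F V} : U ∈ invs g ↔ ∀ v ∈ U, g v ∈ U := by
  simp [invs]

/-- Chains starting at a given subspace, with steps `μ`. -/
def ChainFrom (g : End F V) {n : ℕ} (U : Submodule F V) (μ : Fin n → ℕ) :
    Set (Fin (n + 1) → Submodule F V) :=
  {C | C 0 = U ∧ C ∈ Chain g n fun a => finrank F U + partialSum μ a}

theorem partialSum_zero {n : ℕ} (μ : Fin n → ℕ) : partialSum μ 0 = 0 := by simp [partialSum]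

theorem partialSum_cons {n : ℕ} (a : ℕ) (μ : Fin n → ℕ) (k : ℕ) :
    partialSum (Fin.cons a μ : Fin (n + 1) → ℕ) (k + 1) = a + partialSum μ k := by
  simp only [partialSum, Finset.sum_filter, Fin.sum_univ_succ, Fin.cons_zero, Fin.cons_succ, Fin.val_zero,
    Fin.val_succ, Nat.add_lt_add_iff_right]
  simp

theorem card_chainFrom_zero [Finite V] {g : End F V} {U : Submodule F V} (hU : U ∈ invs g) (μ : Fin 0 → ℕ) :
    Nat.card (ChainFrom g U μ) = 1 := by
  have h : ChainFrom g U μ = {fun _ => U} := by
    ext C
    constructor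
    · intro h
      funext a
      rw [Subsingleton.elim (α := Fin 1) a 0]
      exact h.1
    · rintro rfl
      exact ⟨rfl, fun _ _ _ => le_rfl, fun a => by simp [partialSum], fun a v hv => mem_invs.1 hU v hv⟩
  simp [h]

/-- The subspaces that may follow `U` after a step of size `a`. -/
noncomputable def nexts [Finite V] (g : End F V) (U : Submodule F V) (a : ℕ) : Finset (Submodule F V) :=
  haveI := Classical.decPred fun W : Submodule F V => U ≤ W ∧ finrank F W = finrank F U + a
  (invs g).filter fun W => U ≤ W ∧ finrank F W = finrank F U + a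

theorem mem_nexts [Finite V] {g : End F V} {U W : Submodule F V} {a : ℕ} :
    W ∈ nexts g U a ↔ W ∈ invs g ∧ U ≤ W ∧ finrank F W = finrank F U + a := by
  simp [nexts]

theorem card_chainFrom_cons [Finite V] {g : End F V} {U : Submodule F V} (hU : U ∈ invs g) (a : ℕ) {n : ℕ}
    (μ : Fin n → ℕ) :
    Nat.card (ChainFrom g U (Fin.cons a μ : Fin (n + 1) → ℕ)) =
      ∑ W ∈ nexts g U a, Nat.card (ChainFrom g W μ) := by
  classical
  have := Finite.of_injective (fun U : Submodule F V => (U : Set V)) SetLike.coe_injective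
  have hW : ∀ C : ChainFrom g U (Fin.cons a μ : Fin (n + 1) → ℕ), C.1 1 ∈ nexts g U a := by
    rintro ⟨C, h0, hmono, hdim, hinv⟩
    refine mem_nexts.2 ⟨mem_invs.2 (hinv 1), h0 ▸ hmono (Fin.zero_le _), ?_⟩
    rw [hdim 1]; dsimp only; rw [show ((1 : Fin (n + 2)) : ℕ) = 0 + 1 from rfl, partialSum_cons, partialSum_zero, add_zero]
  let f : ChainFrom g U (Fin.cons a μ : Fin (n + 1) → ℕ) → Σ W : nexts g U a, ChainFrom g W.1 μ := fun C =>
    ⟨⟨C.1 1, hW C⟩, ⟨fun i => C.1 i.succ, rfl, fun i j hij => C.2.2.1 (Fin.succ_le_succ_iff.2 hij), fun i => by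
      rw [C.2.2.2.1 i.succ, (mem_nexts.1 (hW C)).2.2, Fin.val_succ]; dsimp only; rw [partialSum_cons, add_assoc],
      fun i => C.2.2.2.2 i.succ⟩⟩
  have hf : Function.Bijective f := by
    constructor
    · intro C C' h
      have h' := congrArg (fun s : (Σ W : nexts g U a, ChainFrom g W.1 μ) => (s.2.1 : Fin (n + 1) → Submodule F V)) h
      refine Subtype.ext (funext fun i => ?_)
      induction i using Fin.cases with
      | zero => rw [C.2.1, C'.2.1]
      | succ i => exact congrFun h' i
    · rintro ⟨⟨W, hW'⟩, ⟨C, h0, hmono, hdim, hinv⟩⟩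
      obtain ⟨-, hUW, hWdim⟩ := mem_nexts.1 hW'
      have hmem : (Fin.cons U C : Fin (n + 2) → Submodule F V) ∈
          ChainFrom g U (Fin.cons a μ : Fin (n + 1) → ℕ) := by
        refine ⟨rfl, ?_, ?_, ?_⟩
        · intro i j hij
          induction i using Fin.cases with
          | zero =>
            induction j using Fin.cases with
            | zero => exact le_rfl
            | succ j =>
              simp only [Fin.cons_zero, Fin.cons_succ]
              exact hUW.trans ((le_of_eq h0.symm).trans (hmono (Fin.zero_le _)))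
          | succ i =>
            induction j using Fin.cases with
            | zero => exact absurd hij (by simp)
            | succ j =>
              simp only [Fin.cons_succ]
              exact hmono (Fin.succ_le_succ_iff.1 hij)
        · intro i
          induction i using Fin.cases with
          | zero => simp [partialSum_zero]; rfl
          | succ i =>
            rw [Fin.cons_succ, hdim i, Fin.val_succ]
            dsimp only
            rw [partialSum_cons]
            rw [hWdim, add_assoc]
        · intro i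
          induction i using Fin.cases with
          | zero => simpa using mem_invs.1 hU
          | succ i => simpa only [Fin.cons_succ] using hinv i
      exact ⟨⟨_, hmem⟩, Sigma.subtype_ext (Subtype.ext h0) rfl⟩
  rw [Nat.card_eq_of_bijective f hf, Nat.card_sigma]
  exact Finset.sum_coe_sort (nexts g U a) fun W => Nat.card (ChainFrom g W μ)

/-- The step sizes attached to a permutation; the block of `0` is enlarged by `c`. -/
def stepsOf {n : ℕ} (c : ℕ) (e : Equiv.Perm (Fin n)) (i : Fin n) : ℕ :=
  1 + i.val - (e i).val + if (e i).val = 0 then c else 0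

/-- The alternating sum of chains above `U`. -/
noncomputable def alt (g : End F V) (n c : ℕ) (U : Submodule F V) : ℤ :=
  ∑ e : Equiv.Perm (Fin n),
    if ∀ i : Fin n, (e i).val ≤ 1 + i.val then
      (Equiv.Perm.sign e : ℤ) * (Nat.card (ChainFrom g U (stepsOf c e)) : ℤ) else 0

theorem alt_zero [Finite V] {g : End F V} {U : Submodule F V} (hU : U ∈ invs g) (c : ℕ) :
    alt g 0 c U = 1 := by
  simp [alt, card_chainFrom_zero hU]

theorem stepsOf_decompose_zero {n : ℕ} (c : ℕ) (e : Equiv.Perm (Fin n)) :
    stepsOf c (Equiv.Perm.decomposeFin.symm (0, e)) = Fin.cons (1 + c) (stepsOf 0 e) := by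
  funext i
  induction i using Fin.cases with
  | zero => simp [stepsOf]
  | succ i =>
    simp only [stepsOf, Equiv.Perm.decomposeFin_symm_apply_succ, Equiv.swap_self, Equiv.refl_apply,
      Fin.val_succ, Fin.cons_succ]
    simp
    omega

theorem cond_decompose_zero {n : ℕ} (e : Equiv.Perm (Fin n)) :
    (∀ i : Fin (n + 1), ((Equiv.Perm.decomposeFin.symm (0, e)) i).val ≤ 1 + i.val) ↔
      ∀ i : Fin n, (e i).val ≤ 1 + i.val := by
  rw [Fin.forall_fin_succ]
  simp only [Equiv.Perm.decomposeFin_symm_apply_zero, Equiv.Perm.decomposeFin_symm_apply_succ,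
    Equiv.swap_self, Equiv.refl_apply, Fin.val_succ, Fin.val_zero, Nat.zero_le, true_and]
  exact forall_congr' fun i => by omega

theorem decompose_one_succ {n : ℕ} (e : Equiv.Perm (Fin (n + 1))) (i : Fin (n + 1)) :
    ((Equiv.Perm.decomposeFin.symm (1, e)) i.succ).val =
      if (e i).val = 0 then 0 else (e i).val + 1 := by
  rw [Equiv.Perm.decomposeFin_symm_apply_succ]
  split_ifs with h
  · rw [show (e i).succ = (1 : Fin (n + 2)) from Fin.ext (by simp [h]), Equiv.swap_apply_right]
    rfl
  · rw [Equiv.swap_apply_of_ne_of_ne (Fin.succ_ne_zero _) (fun hh => h (by simpa using congrArg Fin.val hh)),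
      Fin.val_succ]

theorem stepsOf_decompose_one {n : ℕ} (c : ℕ) (e : Equiv.Perm (Fin (n + 1))) :
    stepsOf c (Equiv.Perm.decomposeFin.symm (1, e)) = Fin.cons 0 (stepsOf (c + 1) e) := by
  funext i
  induction i using Fin.cases with
  | zero => simp [stepsOf]
  | succ i =>
    simp only [stepsOf, decompose_one_succ, Fin.val_succ, Fin.cons_succ]
    split_ifs
    all_goals first | omega | contradiction

theorem cond_decompose_one {n : ℕ} (e : Equiv.Perm (Fin (n + 1))) :
    (∀ i : Fin (n + 2), ((Equiv.Perm.decomposeFin.symm (1, e)) i).val ≤ 1 + i.val) ↔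
      ∀ i : Fin (n + 1), (e i).val ≤ 1 + i.val := by
  rw [Fin.forall_fin_succ]
  simp only [decompose_one_succ, Equiv.Perm.decomposeFin_symm_apply_zero, Fin.val_succ]
  refine ⟨fun h i => ?_, fun h => ⟨by simp, fun i => ?_⟩⟩
  · have := h.2 i
    split_ifs at this <;> omega
  · have := h i
    split_ifs <;> omega

theorem nexts_zero [Finite V] {g : End F V} {U : Submodule F V} (hU : U ∈ invs g) :
    nexts g U 0 = {U} := by
  ext W
  rw [mem_nexts, Finset.mem_singleton]
  exact ⟨fun h => (Submodule.eq_of_le_of_finrank_eq h.2.1 (by rw [h.2.2, add_zero])).symm,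
    fun h => by subst h; exact ⟨hU, le_rfl, rfl⟩⟩

theorem alt_term_zero [Finite V] {g : End F V} {U : Submodule F V} (hU : U ∈ invs g) (n c : ℕ) :
    ∑ e : Equiv.Perm (Fin n),
      (if ∀ i : Fin (n + 1), ((Equiv.Perm.decomposeFin.symm (0, e)) i).val ≤ 1 + i.val then
        (Equiv.Perm.sign (Equiv.Perm.decomposeFin.symm (0, e)) : ℤ) *
          (Nat.card (ChainFrom g U (stepsOf c (Equiv.Perm.decomposeFin.symm (0, e)))) : ℤ) else 0) =
      ∑ W ∈ nexts g U (1 + c), alt g n 0 W := by
  simp only [alt]
  rw [Finset.sum_comm]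
  refine Finset.sum_congr rfl fun e _ => ?_
  rw [stepsOf_decompose_zero, card_chainFrom_cons hU]
  by_cases he : ∀ i : Fin n, (e i).val ≤ 1 + i.val
  · simp only [if_pos he, if_pos ((cond_decompose_zero e).2 he), Equiv.Perm.decomposeFin.symm_sign]
    simp [Finset.mul_sum]
  · simp only [if_neg he, if_neg (fun h => he ((cond_decompose_zero e).1 h))]
    simp

theorem alt_one [Finite V] {g : End F V} {U : Submodule F V} (hU : U ∈ invs g) (c : ℕ) :
    alt g 1 c U = ∑ W ∈ nexts g U (1 + c), alt g 0 0 W := by
  rw [← alt_term_zero hU, alt, ← Equiv.sum_comp Equiv.Perm.decomposeFin.symm, Fintype.sum_prod_type,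
    Fin.sum_univ_one]

theorem alt_succ [Finite V] {g : End F V} {U : Submodule F V} (hU : U ∈ invs g) (n c : ℕ) :
    alt g (n + 2) c U = ∑ W ∈ nexts g U (1 + c), alt g (n + 1) 0 W - alt g (n + 1) (c + 1) U := by
  rw [← alt_term_zero hU, alt, ← Equiv.sum_comp Equiv.Perm.decomposeFin.symm, Fintype.sum_prod_type,
    Fin.sum_univ_succ, Fin.sum_univ_succ, sub_eq_add_neg]
  congr 1
  have h2 : ∑ p : Fin n, ∑ e : Equiv.Perm (Fin (n + 1)),
      (if ∀ i : Fin (n + 2), ((Equiv.Perm.decomposeFin.symm (p.succ.succ, e)) i).val ≤ 1 + i.val then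
        (Equiv.Perm.sign (Equiv.Perm.decomposeFin.symm (p.succ.succ, e)) : ℤ) *
          (Nat.card (ChainFrom g U (stepsOf c (Equiv.Perm.decomposeFin.symm (p.succ.succ, e)))) : ℤ) else 0) = 0 := by
    refine Finset.sum_eq_zero fun p _ => Finset.sum_eq_zero fun e _ => if_neg fun h => ?_
    have := h 0
    simp [Fin.val_succ] at this
  rw [h2, add_zero, Fin.succ_zero_eq_one, alt, ← Finset.sum_neg_distrib]
  refine Finset.sum_congr rfl fun e _ => ?_
  rw [stepsOf_decompose_one, card_chainFrom_cons hU, nexts_zero hU, Finset.sum_singleton,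
    Equiv.Perm.decomposeFin.symm_sign, if_neg (show (1 : Fin (n + 2)) ≠ 0 by simp)]
  by_cases he : ∀ i : Fin (n + 1), (e i).val ≤ 1 + i.val
  · simp [if_pos he, if_pos ((cond_decompose_one e).2 he)]
  · rw [if_neg he, if_neg (fun h => he ((cond_decompose_one e).1 h)), neg_zero]

/-- The alternating sum from `U` up to the whole space. -/
noncomputable def altTop (g : End F V) (U : Submodule F V) : ℤ :=
  alt g (finrank F V - finrank F U) 0 U

/-- The strictly larger subspaces after a step of size more than `c`. -/
noncomputable def aboves [Finite V] (g : End F V) (U : Submodule F V) (c : ℕ) : Finset (Submodule F V) :=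
  haveI := Classical.decPred fun W : Submodule F V => U ≤ W ∧ finrank F U + c < finrank F W
  (invs g).filter fun W => U ≤ W ∧ finrank F U + c < finrank F W

theorem mem_aboves [Finite V] {g : End F V} {U W : Submodule F V} {c : ℕ} :
    W ∈ aboves g U c ↔ W ∈ invs g ∧ U ≤ W ∧ finrank F U + c < finrank F W := by
  simp [aboves]

theorem alt_eq_sum [Finite V] {g : End F V} (n : ℕ) {U : Submodule F V} (hU : U ∈ invs g) :
    ∀ c, finrank F U + c + (n + 1) = finrank F V →
      alt g (n + 1) c U = ∑ W ∈ aboves g U c, (-1 : ℤ) ^ (finrank F W - (finrank F U + c + 1)) * altTop g W := by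
  classical
  induction n with
  | zero =>
    intro c hd
    rw [alt_one hU]
    have heq : aboves g U c = nexts g U (1 + c) := by
      ext W
      rw [mem_aboves, mem_nexts]
      have := Submodule.finrank_le W
      constructor <;> rintro ⟨h1, h2, h3⟩ <;> exact ⟨h1, h2, by omega⟩
    rw [heq]
    refine Finset.sum_congr rfl fun W hW => ?_
    obtain ⟨-, -, h3⟩ := mem_nexts.1 hW
    rw [altTop, show finrank F V - finrank F W = 0 by omega,
      show finrank F W - (finrank F U + c + 1) = 0 by omega, pow_zero, one_mul]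
  | succ n ih =>
    intro c hd
    rw [alt_succ hU, ih (c + 1) (by omega)]
    have hsplit : aboves g U c = nexts g U (1 + c) ∪ aboves g U (c + 1) := by
      ext W
      rw [Finset.mem_union, mem_aboves, mem_nexts, mem_aboves]
      constructor
      · rintro ⟨h1, h2, h3⟩
        rcases Nat.lt_or_ge (finrank F U + (c + 1)) (finrank F W) with h | h
        · exact Or.inr ⟨h1, h2, h⟩
        · exact Or.inl ⟨h1, h2, by omega⟩
      · rintro (⟨h1, h2, h3⟩ | ⟨h1, h2, h3⟩) <;> exact ⟨h1, h2, by omega⟩
    have hdisj : Disjoint (nexts g U (1 + c)) (aboves g U (c + 1)) := by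
      rw [Finset.disjoint_left]
      intro W h h'
      have := (mem_nexts.1 h).2.2
      have := (mem_aboves.1 h').2.2
      omega
    rw [hsplit, Finset.sum_union hdisj, sub_eq_add_neg]
    congr 1
    · refine Finset.sum_congr rfl fun W hW => ?_
      obtain ⟨-, -, h3⟩ := mem_nexts.1 hW
      rw [altTop, show finrank F V - finrank F W = n + 1 by omega,
        show finrank F W - (finrank F U + c + 1) = 0 by omega, pow_zero, one_mul]
    · rw [← Finset.sum_neg_distrib]
      refine Finset.sum_congr rfl fun W hW => ?_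
      have := (mem_aboves.1 hW).2.2
      rw [show finrank F W - (finrank F U + c + 1) = finrank F W - (finrank F U + (c + 1) + 1) + 1 by omega,
        pow_succ]
      ring

/-- The Möbius function from `U` to the whole space. -/
noncomputable def mu (g : End F V) (U : Submodule F V) : ℤ :=
  (-1) ^ (finrank F V - finrank F U) * altTop g U

theorem mu_top [Finite V] (g : End F V) : mu g ⊤ = 1 := by
  simp [mu, altTop, finrank_top, alt_zero (show (⊤ : Submodule F V) ∈ invs g from mem_invs.2 fun _ _ => trivial)]

theorem sum_mu [Finite V] {g : End F V} {U : Submodule F V} (hU : U ∈ invs g) (hne : U ≠ ⊤)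
    [DecidablePred fun W : Submodule F V => U ≤ W] :
    ∑ W ∈ (invs g).filter (fun W => U ≤ W), mu g W = 0 := by
  classical
  have hlt : finrank F U < finrank F V := Submodule.finrank_lt hne
  have hins : (invs g).filter (fun W => U ≤ W) = insert U (aboves g U 0) := by
    ext W
    rw [Finset.mem_filter, Finset.mem_insert, mem_aboves]
    constructor
    · rintro ⟨h1, h2⟩
      rcases h2.eq_or_lt with h | h
      · exact Or.inl h.symm
      · exact Or.inr ⟨h1, h2, by simpa using Submodule.finrank_lt_finrank_of_lt h⟩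
    · rintro (rfl | ⟨h1, h2, -⟩)
      · exact ⟨hU, le_rfl⟩
      · exact ⟨h1, h2⟩
  rw [hins, Finset.sum_insert (fun h => (by simpa using (mem_aboves.1 h).2.2))]
  conv_lhs => arg 1; rw [mu, altTop]
  obtain ⟨n, hn⟩ : ∃ n, finrank F V - finrank F U = n + 1 := ⟨_, (Nat.succ_pred_eq_of_pos (by omega)).symm⟩
  rw [hn, alt_eq_sum n hU 0 (by omega), Finset.mul_sum, ← Finset.sum_add_distrib]
  refine Finset.sum_eq_zero fun W hW => ?_
  obtain ⟨-, -, h⟩ := mem_aboves.1 hW
  have := Submodule.finrank_le W
  rw [mu, show n + 1 = (finrank F V - finrank F W) + (finrank F W - (finrank F U + 0 + 1)) + 1 by omega,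
    pow_succ, pow_add]
  have hsq : ((-1 : ℤ) ^ (finrank F W - (finrank F U + 0 + 1))) * (-1) ^ (finrank F W - (finrank F U + 0 + 1)) = 1 := by
    rw [← mul_pow]; simp
  linear_combination (-((-1 : ℤ) ^ (finrank F V - finrank F W) * altTop g W)) * hsq

end CfsgLib.SteinbergValues
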