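import Cfsg.Agent.Lib.Semisimple.Endo
import Cfsg.Agent.Lib.SteinbergValues.Recursion

/-! The Möbius function of the lattice of invariant subspaces of a semisimple endomorphism. -/

set_option autoImplicit false

namespace CfsgLib.SteinbergValues

open Module Finset Polynomial UniqueFactorizationMonoid

variable {F : Type*} [Field F] {V : Type*} [AddCommGroup V] [Module F V]

/-- Functions satisfying the defining recursion of the Möbius function towards the top. -/
def IsMu [Finite V] (g : End F V) (T : Submodule F V → ℤ) : Prop :=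
  T ⊤ = 1 ∧ ∀ U ∈ invs g, U ≠ ⊤ → ∀ S : Finset (Submodule F V),
    (∀ W, W ∈ S ↔ W ∈ invs g ∧ U ≤ W) → ∑ W ∈ S, T W = 0

theorem isMu_mu [Finite V] (g : End F V) : IsMu g (mu g) := by
  classical
  refine ⟨mu_top g, fun U hU hne S hS => ?_⟩
  rw [show S = (invs g).filter (fun W => U ≤ W) by ext W; simp [hS]]
  exact sum_mu hU hne

theorem inf_mem_invs [Finite V] {g : End F V} {U W : Submodule F V} (hU : U ∈ invs g) (hW : W ∈ invs g) :
    U ⊓ W ∈ invs g :=
  mem_invs.2 fun v hv => ⟨mem_invs.1 hU v hv.1, mem_invs.1 hW v hv.2⟩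

theorem bot_mem_invs [Finite V] (g : End F V) : (⊥ : Submodule F V) ∈ invs g :=
  mem_invs.2 fun v hv => by simp [(Submodule.mem_bot F).1 hv]

/-- Weisner's identity. -/
theorem weisner [Finite V] {g : End F V} {T : Submodule F V → ℤ} (hT : IsMu g T) {H : Submodule F V}
    (hH : H ∈ invs g) (hne : H ≠ ⊤) : ∀ (k : ℕ) (U : Submodule F V), finrank F H = finrank F U + k → U ∈ invs g →
      U ≤ H → ∀ S : Finset (Submodule F V),
        (∀ W, W ∈ S ↔ W ∈ invs g ∧ U ≤ W ∧ W ⊓ H = U) → ∑ W ∈ S, T W = 0 := by
  classical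
  intro k
  induction k using Nat.strong_induction_on with
  | _ k ih =>
    intro U hk hU hUH S hS
    have htot := hT.2 U hU (fun h => hne (top_le_iff.1 (h ▸ hUH))) ((invs g).filter fun W => U ≤ W)
      (fun W => by simp)
    rw [← Finset.sum_fiberwise_of_maps_to (t := (invs g).filter fun X => U ≤ X ∧ X ≤ H) (g := fun W => W ⊓ H)
      (fun W hW => by
        obtain ⟨hW1, hW2⟩ := Finset.mem_filter.1 hW
        exact Finset.mem_filter.2 ⟨inf_mem_invs hW1 hH, le_inf hW2 hUH, inf_le_right⟩)] at htot
    rw [Finset.sum_eq_single U] at htot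
    · rw [show S = ((invs g).filter fun W => U ≤ W).filter fun W => W ⊓ H = U by
        ext W; simp [hS, and_assoc]]
      exact htot
    · intro X hX hXU
      obtain ⟨hX1, hX2, hX3⟩ := Finset.mem_filter.1 hX
      have hlt : finrank F U < finrank F X := Submodule.finrank_lt_finrank_of_lt (lt_of_le_of_ne hX2 (Ne.symm hXU))
      have hle := Submodule.finrank_mono hX3
      refine ih (finrank F H - finrank F X) (by omega) X (by omega) hX1 hX3 _ fun W => ?_
      simp only [Finset.mem_filter, and_assoc]
      constructor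
      · rintro ⟨h1, -, h3⟩; exact ⟨h1, h3 ▸ inf_le_left, h3⟩
      · rintro ⟨h1, h2, h3⟩; exact ⟨h1, hX2.trans h2, h3⟩
    · intro h
      exact absurd (Finset.mem_filter.2 ⟨hU, le_rfl, hUH⟩) h

theorem finite_adjoinRoot [Finite F] {f : F[X]} (hf : Irreducible f) : Finite (AdjoinRoot f) :=
  have : FiniteDimensional F (AdjoinRoot f) := (AdjoinRoot.powerBasis hf.ne_zero).finite
  Module.finite_of_finite F

theorem finrank_adjoinRoot {f : F[X]} (hf : Irreducible f) : finrank F (AdjoinRoot f) = f.natDegree := by
  rw [(AdjoinRoot.powerBasis hf.ne_zero).finrank, AdjoinRoot.powerBasis_dim]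

/-- Data of a decomposition `V ≅ F[X]/(f) × H` commuting with the endomorphisms. -/
theorem aeval_decomposition {f : F[X]} {g : End F V} {H : Submodule F V} {hH : ∀ x ∈ H, g x ∈ H}
    (e : (AdjoinRoot f × H) ≃ₗ[F] V)
    (he : ∀ x : AdjoinRoot f × H, g (e x) = e (AdjoinRoot.root f * x.1, g.restrict hH x.2)) (p : F[X]) :
    ∀ x : AdjoinRoot f × H, aeval g p (e x) = e (AdjoinRoot.mk f p * x.1, aeval (g.restrict hH) p x.2) := by
  induction p using Polynomial.induction_on' with
  | add p q hp hq =>
    intro x
    rw [map_add, LinearMap.add_apply, hp x, hq x, ← map_add e, Prod.mk_add_mk, ← add_mul, ← map_add (AdjoinRoot.mk f),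
      map_add, ← LinearMap.add_apply]
    simp only [map_add]
  | monomial m a =>
    induction m with
    | zero =>
      intro x
      simp only [monomial_zero_left, aeval_C, AdjoinRoot.mk_C, Module.algebraMap_end_apply,
        ← AdjoinRoot.algebraMap_eq, ← Algebra.smul_def]
      rw [← map_smul]
      rfl
    | succ m ih =>
      intro x
      have hmul : monomial (m + 1) a = monomial m a * X := (monomial_mul_X m a).symm
      simp only [hmul, map_mul, aeval_X, AdjoinRoot.mk_X, End.mul_apply, he x, ih, mul_assoc]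

/-- The kernel of `f(g)` is counted by the multiplicity of `f`. -/
theorem card_ker_aeval [Finite F] [DecidableEq F] {k : ℕ} (hk : (k : F) ≠ 0) :
    ∀ (N : ℕ) {V : Type*} [AddCommGroup V] [Module F V] [FiniteDimensional F V] (g : End F V)
      (f : F[X]), finrank F V = N → g ^ k = 1 → f.Monic → Irreducible f →
      Nat.card (LinearMap.ker (aeval g f)) =
        Nat.card F ^ (f.natDegree * (normalizedFactors g.charpoly).count f) := by
  intro N
  induction N using Nat.strong_induction_on with
  | _ N ih =>
    intro V _ _ _ g f hN hg hmon hf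
    rcases Nat.eq_zero_or_pos N with rfl | hpos
    · have : Subsingleton V := finrank_zero_iff.1 hN
      have h1 : g.charpoly = 1 := by
        refine (LinearMap.charpoly_monic g).natDegree_eq_zero.1 ?_
        rw [LinearMap.charpoly_natDegree, hN]
      simp only [h1, normalizedFactors_one, Multiset.count_zero, mul_zero, pow_zero]
      exact Nat.card_unique
    obtain ⟨f', hmon', hf', hdvd⟩ : ∃ f' : F[X], f'.Monic ∧ Irreducible f' ∧ f' ∣ g.charpoly :=
      Polynomial.exists_monic_irreducible_factor _
        (fun hu => by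
          have := natDegree_eq_zero_of_isUnit hu
          rw [LinearMap.charpoly_natDegree, hN] at this
          omega)
    have := Fact.mk hf'
    have : FiniteDimensional F (AdjoinRoot f') := (AdjoinRoot.powerBasis hf'.ne_zero).finite
    have := finite_adjoinRoot (F := F) hf'
    obtain ⟨H, hH, e, he⟩ :=
      Semisimple.exists_decomposition g (Semisimple.isSemisimple_of_pow_eq_one g hk hg) f' hmon' hf' hdvd
    have hc : g.charpoly = f' * (g.restrict hH).charpoly := by
      rw [Semisimple.charpoly_decomposition e he, Semisimple.charpoly_mulLeft_root hmon']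
    have hlt : finrank F H < N := by
      have h1 := e.finrank_eq
      rw [finrank_prod, hN, finrank_adjoinRoot hf'] at h1
      have := hf'.natDegree_pos
      omega
    have hI := ih _ hlt (g.restrict hH) f rfl (Semisimple.restrict_pow_eq_one hH hg) hmon hf
    have h2 : LinearMap.ker (aeval g f) =
        ((LinearMap.ker (LinearMap.mulLeft F (AdjoinRoot.mk f' f))).prod
          (LinearMap.ker (aeval (g.restrict hH) f))).map e.toLinearMap := by
      ext v
      obtain ⟨x, rfl⟩ := e.surjective v
      rw [LinearMap.mem_ker, aeval_decomposition e he, Submodule.mem_map_equiv, e.symm_apply_apply,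
        Submodule.mem_prod, LinearMap.mem_ker, LinearMap.mem_ker, e.map_eq_zero_iff, Prod.mk_eq_zero,
        LinearMap.mulLeft_apply]
    have h3 : Nat.card (LinearMap.ker (LinearMap.mulLeft F (AdjoinRoot.mk f' f))) =
        Nat.card F ^ (f.natDegree * ([f'] : List F[X]).count f) := by
      by_cases hff : f' = f
      · subst hff
        rw [AdjoinRoot.mk_self, LinearMap.mulLeft_zero_eq_zero, LinearMap.ker_zero,
          Nat.card_congr Submodule.topEquiv.toEquiv, Module.natCard_eq_pow_finrank (K := F),
          finrank_adjoinRoot hf']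
        simp
      · have hne : AdjoinRoot.mk f' f ≠ 0 := by
          rw [ne_eq, AdjoinRoot.mk_eq_zero]
          exact fun h => hff (Polynomial.eq_of_monic_of_associated hmon' hmon (hf'.associated_of_dvd hf h))
        rw [LinearMap.ker_eq_bot.2 fun a b h => mul_left_cancel₀ hne h]
        simp [List.count_singleton, hff]
    rw [h2, Nat.card_congr (e.submoduleMap _).symm.toEquiv]
    refine ((Nat.card_congr (Equiv.Set.prod (LinearMap.ker (LinearMap.mulLeft F (AdjoinRoot.mk f' f)) : Set (AdjoinRoot f'))
      (LinearMap.ker (aeval (g.restrict hH) f) : Set H))).trans (Nat.card_prod _ _)).trans ?_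
    change Nat.card (LinearMap.ker (LinearMap.mulLeft F (AdjoinRoot.mk f' f))) *
      Nat.card (LinearMap.ker (aeval (g.restrict hH) f)) = _
    rw [h3, hI, ← pow_add, ← mul_add, hc,
      normalizedFactors_mul hf'.ne_zero (LinearMap.charpoly_monic _).ne_zero, Multiset.count_add,
      normalizedFactors_irreducible hf', hmon'.normalize_eq_self]
    congr 3
    by_cases hff : f' = f
    · subst hff; simp
    · simp [hff, Ne.symm hff, Multiset.count_singleton]

/-- The value of the Möbius function. -/
noncomputable def muValue [DecidableEq F] (q : ℕ) (M : Multiset F[X]) : ℤ :=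
  ∏ f ∈ M.toFinset, (-1) ^ M.count f * (q : ℤ) ^ (f.natDegree * (M.count f).choose 2)

theorem muValue_cons [DecidableEq F] (q : ℕ) (f : F[X]) (M : Multiset F[X]) :
    muValue q (f ::ₘ M) = -((q : ℤ) ^ (f.natDegree * M.count f) * muValue q M) := by
  classical
  have h : ∀ S : Finset F[X], M.toFinset ⊆ S → muValue q M =
      ∏ h ∈ S, (-1) ^ M.count h * (q : ℤ) ^ (h.natDegree * (M.count h).choose 2) := fun S hS =>
    Finset.prod_subset hS fun h _ hh => by simp [Multiset.count_eq_zero.2 (by simpa using hh)]
  rw [h (insert f M.toFinset) (Finset.subset_insert _ _), muValue, Multiset.toFinset_cons,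
    ← Finset.mul_prod_erase _ _ (Finset.mem_insert_self f M.toFinset),
    ← Finset.mul_prod_erase _ _ (Finset.mem_insert_self f M.toFinset), Multiset.count_cons_self]
  rw [Finset.prod_congr rfl (g := fun h => (-1) ^ M.count h * (q : ℤ) ^ (h.natDegree * (M.count h).choose 2))
    (fun h hh => by rw [Multiset.count_cons_of_ne (Finset.mem_erase.1 hh).1]),
    Nat.choose_succ_succ', Nat.choose_one_right, pow_succ, mul_add, pow_add]
  ring

/-- The invariant decomposition, with the second factor sitting inside `V` as itself. -/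
theorem exists_decomposition_id [FiniteDimensional F V] (g : End F V) (hss : g.IsSemisimple) (f : F[X])
    (hmon : f.Monic) (hf : Irreducible f) (hdvd : f ∣ g.charpoly) :
    ∃ (W : Submodule F V) (hW : ∀ x ∈ W, g x ∈ W) (e : (AdjoinRoot f × W) ≃ₗ[F] V),
      (∀ x : AdjoinRoot f × W, g (e x) = e (AdjoinRoot.root f * x.1, g.restrict hW x.2)) ∧
      ∀ w : W, e (0, w) = w := by
  obtain ⟨ι, hinj, hι⟩ := Semisimple.exists_cyclic g f hmon hf hdvd
  have hU : LinearMap.range ι ∈ End.invtSubmodule g := by
    rw [End.mem_invtSubmodule]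
    rintro _ ⟨x, rfl⟩
    exact ⟨_, hι x⟩
  obtain ⟨W, hW, hc⟩ := End.isSemisimple_iff.1 hss _ hU
  have hW' : ∀ x ∈ W, g x ∈ W := fun x hx => (End.mem_invtSubmodule g).1 hW hx
  refine ⟨W, hW', ((LinearEquiv.ofInjective ι hinj).prodCongr (LinearEquiv.refl F W)).trans
    (Submodule.prodEquivOfIsCompl _ _ hc), fun x => ?_, fun w => ?_⟩
  · simp [Submodule.coe_prodEquivOfIsCompl', hι, map_add]
  · simp [Submodule.coe_prodEquivOfIsCompl']

theorem aeval_mem {g : End F V} {W : Submodule F V} (hW : ∀ v ∈ W, g v ∈ W) (p : F[X]) :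
    ∀ v ∈ W, aeval g p v ∈ W := by
  induction p using Polynomial.induction_on' with
  | add p q hp hq =>
    intro v hv
    simpa using W.add_mem (hp v hv) (hq v hv)
  | monomial m a =>
    induction m with
    | zero =>
      intro v hv
      simpa [monomial_zero_left] using W.smul_mem a hv
    | succ m ih =>
      intro v hv
      rw [(monomial_mul_X m a).symm, map_mul, aeval_X, End.mul_apply]
      exact ih _ (hW v hv)

/-- The Möbius function at the zero subspace. -/
theorem mu_bot [Finite F] [DecidableEq F] {k : ℕ} (hk : (k : F) ≠ 0) :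
    ∀ (N : ℕ) {V : Type*} [AddCommGroup V] [Module F V] [Finite V] (g : End F V) (T : Submodule F V → ℤ),
      finrank F V = N → g ^ k = 1 → IsMu g T →
      T ⊥ = muValue (Nat.card F) (normalizedFactors g.charpoly) := by
  classical
  intro N
  induction N using Nat.strong_induction_on with
  | _ N ih =>
    intro V _ _ _ g T hN hg hT
    rcases Nat.eq_zero_or_pos N with rfl | hpos
    · have : Subsingleton V := finrank_zero_iff.1 hN
      have h1 : g.charpoly = 1 := by
        refine (LinearMap.charpoly_monic g).natDegree_eq_zero.1 ?_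
        rw [LinearMap.charpoly_natDegree, hN]
      rw [Subsingleton.elim (⊥ : Submodule F V) ⊤, hT.1, h1]
      simp [muValue]
    obtain ⟨f, hmon, hf, hdvd⟩ : ∃ f : F[X], f.Monic ∧ Irreducible f ∧ f ∣ g.charpoly :=
      Polynomial.exists_monic_irreducible_factor _
        (fun hu => by
          have := natDegree_eq_zero_of_isUnit hu
          rw [LinearMap.charpoly_natDegree, hN] at this
          omega)
    have := Fact.mk hf
    have : FiniteDimensional F (AdjoinRoot f) := (AdjoinRoot.powerBasis hf.ne_zero).finite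
    have := finite_adjoinRoot (F := F) hf
    obtain ⟨H, hH, e, he, hid⟩ :=
      exists_decomposition_id g (Semisimple.isSemisimple_of_pow_eq_one g hk hg) f hmon hf hdvd
    have hc : g.charpoly = f * (g.restrict hH).charpoly := by
      rw [Semisimple.charpoly_decomposition e he, Semisimple.charpoly_mulLeft_root hmon]
    have hdim : f.natDegree + finrank F H = N := by
      rw [← hN, ← e.finrank_eq, finrank_prod, finrank_adjoinRoot hf]
    have hdeg := hf.natDegree_pos
    set h := g.restrict hH with hh
    have hHinv : H ∈ invs g := mem_invs.2 hH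
    have hHne : H ≠ ⊤ := fun h => by rw [h, finrank_top] at hdim; omega
    have heH : ∀ x : AdjoinRoot f × H, e x ∈ H ↔ x.1 = 0 := by
      intro x
      refine ⟨fun hx => ?_, fun hx => ?_⟩
      · have h1 : x = (0, (⟨e x, hx⟩ : H)) := e.injective (hid ⟨e x, hx⟩).symm
        rw [h1]
      · rw [show x = (0, x.2) from Prod.ext hx rfl, hid]
        exact x.2.2
    -- intertwiners from `F[X]/(f)` to `H`
    let φ : H → (AdjoinRoot f →ₗ[F] H) := fun v =>
      (LinearMap.applyₗ v).comp ((aeval h).toLinearMap.comp (AdjoinRoot.modByMonicHom hmon))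
    have hφ : ∀ v ∈ LinearMap.ker (aeval h f), ∀ p, φ v (AdjoinRoot.mk f p) = aeval h p v := by
      intro v hv p
      have h1 : aeval h p v = aeval h (p %ₘ f) v := by
        conv_lhs => rw [← modByMonic_add_div p f]
        rw [mul_comm f]
        simp [LinearMap.mem_ker.1 hv]
      simp only [φ, LinearMap.comp_apply, AdjoinRoot.modByMonicHom_mk, AlgHom.toLinearMap_apply,
        LinearMap.applyₗ_apply_apply]
      exact h1.symm
    have hφ1 : ∀ v ∈ LinearMap.ker (aeval h f), φ v 1 = v := fun v hv => by
      rw [← map_one (AdjoinRoot.mk f), hφ v hv]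
      simp
    have hφX : ∀ v ∈ LinearMap.ker (aeval h f), ∀ x, φ v (AdjoinRoot.root f * x) = h (φ v x) := by
      intro v hv x
      obtain ⟨p, rfl⟩ := AdjoinRoot.mk_surjective x
      rw [← AdjoinRoot.mk_X, ← map_mul, hφ v hv, hφ v hv, map_mul, aeval_X, End.mul_apply]
    -- the complement attached to a kernel vector
    let Ψ : LinearMap.ker (aeval h f) → Submodule F V := fun v =>
      LinearMap.range (e.toLinearMap.comp ((LinearMap.id : AdjoinRoot f →ₗ[F] AdjoinRoot f).prod (φ v.1)))
    have hΨmem : ∀ v x, e (x, φ v.1 x) ∈ Ψ v := fun v x => ⟨x, rfl⟩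
    have hΨinv : ∀ v, Ψ v ∈ invs g := fun v => mem_invs.2 (by
      rintro _ ⟨x, rfl⟩
      exact ⟨AdjoinRoot.root f * x, by simp [he, hφX v.1 v.2]⟩)
    have hΨH : ∀ v, Ψ v ⊓ H = ⊥ := fun v => (Submodule.eq_bot_iff _).2 (by
      rintro _ ⟨⟨x, rfl⟩, hx⟩
      have h1 : x = 0 := (heH _).1 hx
      simp [h1])
    have hΨtop : ∀ v, Ψ v ⊔ H = ⊤ := fun v => top_le_iff.1 (by
      intro w _
      obtain ⟨x, rfl⟩ := e.surjective w
      rw [show x = (x.1, φ v.1 x.1) + (0, x.2 - φ v.1 x.1) by simp, map_add, hid]
      exact Submodule.add_mem_sup (hΨmem v x.1) (x.2 - φ v.1 x.1).2)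
    have hΨne : ∀ v, Ψ v ≠ ⊥ := fun v hv => by
      have := hΨtop v
      rw [hv, bot_sup_eq] at this
      exact hHne this
    have hΨinj : Function.Injective Ψ := by
      intro v v' hvv
      obtain ⟨x, hx⟩ := hvv ▸ hΨmem v 1
      have h1 : (x, φ v'.1 x) = ((1 : AdjoinRoot f), φ v.1 1) := e.injective hx
      obtain ⟨rfl, h2⟩ := Prod.ext_iff.1 h1
      simp only [hφ1 _ v.2, hφ1 _ v'.2] at h2
      exact Subtype.ext h2.symm
    have hsurj : ∀ W ∈ invs g, W ⊓ H = ⊥ → W ≠ ⊥ → ∃ v, Ψ v = W := by
      intro W hW hWH hWne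
      obtain ⟨w, hw, hw0⟩ := Submodule.exists_mem_ne_zero_of_ne_bot hWne
      obtain ⟨x, rfl⟩ := e.surjective w
      have hx1 : x.1 ≠ 0 := fun hx => hw0 (by
        have : e x ∈ W ⊓ H := ⟨hw, (heH x).2 hx⟩
        rwa [hWH, Submodule.mem_bot] at this)
      obtain ⟨p, hp⟩ := AdjoinRoot.mk_surjective (g := f) x.1⁻¹
      set v := aeval h p x.2 with hv
      have hz : e (1, v) ∈ W := by
        have := aeval_mem (mem_invs.1 hW) p _ hw
        rwa [aeval_decomposition e he, hp, inv_mul_cancel₀ hx1] at this
      have hvker : v ∈ LinearMap.ker (aeval h f) := by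
        have h1 := aeval_mem (mem_invs.1 hW) f _ hz
        rw [aeval_decomposition e he, AdjoinRoot.mk_self, zero_mul] at h1
        have h2 : e (0, aeval h f v) ∈ W ⊓ H := ⟨h1, (heH _).2 rfl⟩
        rw [hWH, Submodule.mem_bot, e.map_eq_zero_iff] at h2
        exact (Prod.ext_iff.1 h2).2
      have hle : Ψ ⟨v, hvker⟩ ≤ W := by
        rintro _ ⟨y, rfl⟩
        obtain ⟨r, rfl⟩ := AdjoinRoot.mk_surjective y
        have := aeval_mem (mem_invs.1 hW) r _ hz
        rw [aeval_decomposition e he, mul_one] at this
        simpa [hφ v hvker] using this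
      refine ⟨⟨v, hvker⟩, le_antisymm hle fun u hu => ?_⟩
      obtain ⟨y, rfl⟩ := e.surjective u
      have h1 : e y - e (y.1, φ v y.1) ∈ W ⊓ H :=
        ⟨W.sub_mem hu (hle (hΨmem ⟨v, hvker⟩ y.1)), by
          rw [← map_sub]
          exact (heH _).2 (by simp)⟩
      rw [hWH, Submodule.mem_bot, sub_eq_zero] at h1
      exact h1 ▸ hΨmem ⟨v, hvker⟩ y.1
    -- the intervals above the complements
    have hval : ∀ v, T (Ψ v) = muValue (Nat.card F) (normalizedFactors h.charpoly) := by
      intro v
      have hlt : finrank F H < N := by omega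
      have hI := ih _ hlt h (fun Y => T (Ψ v ⊔ Y.map H.subtype)) rfl
        (Semisimple.restrict_pow_eq_one hH hg)
      rw [Submodule.map_bot, sup_bot_eq] at hI
      refine hI ⟨by dsimp only; rw [Submodule.map_top, Submodule.range_subtype, hΨtop, hT.1], fun Y hY hYne S hS => ?_⟩
      have hinf : ∀ Y' : Submodule F H, (Ψ v ⊔ Y'.map H.subtype) ⊓ H = Y'.map H.subtype := fun Y' => by
        rw [sup_comm, sup_inf_assoc_of_le _ (Submodule.map_subtype_le H Y'), hΨH, sup_bot_eq]
      have hcomap : ∀ Y' : Submodule F H, (Ψ v ⊔ Y'.map H.subtype).comap H.subtype = Y' := fun Y' => by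
        apply Submodule.map_injective_of_injective H.injective_subtype
        rw [Submodule.map_comap_subtype, inf_comm, hinf]
      have hinvmap : ∀ Y' ∈ invs h, Ψ v ⊔ Y'.map H.subtype ∈ invs g := fun Y' hY' => mem_invs.2 (by
        intro u hu
        obtain ⟨a, ha, b, ⟨c, hc', rfl⟩, rfl⟩ := Submodule.mem_sup.1 hu
        rw [map_add]
        exact Submodule.add_mem_sup (mem_invs.1 (hΨinv v) a ha) ⟨h c, mem_invs.1 hY' c hc', rfl⟩)
      have hne' : Ψ v ⊔ Y.map H.subtype ≠ ⊤ := fun heq => hYne (by
        rw [← hcomap Y, heq, Submodule.comap_top])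
      have := hT.2 _ (hinvmap Y hY) hne' (S.image fun Y' => Ψ v ⊔ Y'.map H.subtype) fun X => by
        rw [Finset.mem_image]
        constructor
        · rintro ⟨Y', hY', rfl⟩
          exact ⟨hinvmap Y' ((hS Y').1 hY').1, sup_le_sup_left (Submodule.map_mono ((hS Y').1 hY').2) _⟩
        · rintro ⟨hX, hYX⟩
          refine ⟨X.comap H.subtype, (hS _).2 ⟨mem_invs.2 fun u hu => ?_, ?_⟩, ?_⟩
          · exact mem_invs.1 hX _ hu
          · rw [← hcomap Y]
            exact Submodule.comap_mono hYX
          · rw [Submodule.map_comap_subtype, ← sup_inf_assoc_of_le _ (le_sup_left.trans hYX), hΨtop, top_inf_eq]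
      rwa [Finset.sum_image fun a _ b _ hab => by rw [← hcomap a, ← hcomap b, hab]] at this
    -- conclusion
    have : Fintype (LinearMap.ker (aeval h f)) := Fintype.ofFinite _
    have hsum := weisner hT hHinv hHne (finrank F H) ⊥ (by simp) (bot_mem_invs g) bot_le
      (insert ⊥ (Finset.univ.image Ψ)) fun W => by
        rw [Finset.mem_insert, Finset.mem_image]
        constructor
        · rintro (rfl | ⟨v, -, rfl⟩)
          · exact ⟨bot_mem_invs g, le_rfl, bot_inf_eq _⟩
          · exact ⟨hΨinv v, bot_le, hΨH v⟩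
        · rintro ⟨hW, -, hWH⟩
          by_cases hW0 : W = ⊥
          · exact Or.inl hW0
          · obtain ⟨v, hv⟩ := hsurj W hW hWH hW0
            exact Or.inr ⟨v, Finset.mem_univ _, hv⟩
    rw [Finset.sum_insert (fun hb => by
        obtain ⟨v, -, hv⟩ := Finset.mem_image.1 hb
        exact hΨne v hv), Finset.sum_image (fun a _ b _ hab => hΨinj hab),
      Finset.sum_congr rfl (fun v _ => hval v), Finset.sum_const, Finset.card_univ, ← Nat.card_eq_fintype_card,
      card_ker_aeval hk _ h f rfl (Semisimple.restrict_pow_eq_one hH hg) hmon hf, nsmul_eq_mul] at hsum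
    rw [hc, normalizedFactors_mul hf.ne_zero (LinearMap.charpoly_monic _).ne_zero, normalizedFactors_irreducible hf,
      hmon.normalize_eq_self, Multiset.singleton_add, muValue_cons, eq_neg_iff_add_eq_zero]
    exact_mod_cast hsum

end CfsgLib.SteinbergValues
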